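import Cfsg.Agent.Lib.Chev.All

/-!
The centraliser of a regular element of the diagonal subgroup of a Chevalley group.
-/

set_option autoImplicit false

namespace CfsgLib.Known.G2Singer

open Cfsg.Lie CfsgLib.Chev

universe v

variable {D : ChevalleyDatum} {co : ℕ → ℕ → ℤ} {F : Type v} [Field F]

theorem conj_wU (hF : Facts D co) {χ : ℕ → Fˣ} (hχ : IsWeight D (fun r => Additive.ofMul (χ r))) :
    ∀ w : List (ℕ × F), (∀ p ∈ w, p.1 < D.nroots) →
      dU D χ * wU D w * (dU D χ)⁻¹ = wU D (w.map fun p => (p.1, (χ p.1 : F) * p.2)) := by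
  intro w
  induction w with
  | nil => intro _; simp [wU]
  | cons p w ih =>
    intro hw
    rw [List.map_cons, wU_cons, wU_cons, ← ih fun q hq => hw q (List.mem_cons_of_mem _ hq)]
    have e : dU D χ * (xU D p.1 p.2 * wU D w) * (dU D χ)⁻¹ =
        (dU D χ * xU D p.1 p.2 * (dU D χ)⁻¹) * (dU D χ * wU D w * (dU D χ)⁻¹) := by group
    rw [e, hF.dU_conj hχ (hw p (List.mem_cons_self ..)), mul_inv_cancel_right]

/-- No nontrivial positive unipotent element commutes with a regular diagonal element. -/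
theorem pos_eq_one (hF : Facts D co) (hC : CommF.{v} D) {χ : ℕ → Fˣ}
    (hχ : IsWeight D (fun r => Additive.ofMul (χ r)))
    (hne : ∀ r < D.nroots, χ r ≠ 1) {u : GL D.Idx F}
    (hu : u ∈ rootClosure D F (D.nroots / 2 ≤ ·)) (hc : dU D χ * u * (dU D χ)⁻¹ = u) : u = 1 := by
  have hev := hF.nroots_even
  obtain ⟨t, rfl⟩ := hF.exists_ordered hC (m := D.nroots / 2) (k := D.nroots / 2) (by omega) le_rfl hu
  rw [conj_wU hF hχ _ (fun p hp => by
    obtain ⟨r, hr, rfl⟩ := List.mem_map.1 hp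
    rw [List.mem_range'_1] at hr
    show r < D.nroots
    omega), List.map_map] at hc
  have hz : ∀ r, D.nroots / 2 ≤ r → r < D.nroots → t r = 0 := fun r h1 h2 => by
    have := hF.ordered_unique (m := D.nroots / 2) (k := D.nroots / 2) (by omega) le_rfl
      (t := fun r => (χ r : F) * t r) (t' := t) hc r h1 h2
    by_contra h0
    exact hne r h2 (Units.ext (mul_right_cancel₀ h0 (this.trans (one_mul _).symm)))
  refine (Subgroup.mem_bot (G := GL D.Idx F)).1 (wU_mem fun p hp => ?_)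
  obtain ⟨r, hr, rfl⟩ := List.mem_map.1 hp
  rw [List.mem_range'_1] at hr
  rw [hz r hr.1 (by omega), hF.xU_zero (by omega)]
  exact one_mem _

/-- A diagonal positive unipotent element is trivial. -/
theorem eq_one_of_pos_diag (hF : Facts D co) {g : GL D.Idx F}
    (hu : g ∈ rootClosure D F (D.nroots / 2 ≤ ·)) (hd : g ∈ D.diagonalSubgroup F) : g = 1 := by
  refine Units.ext ?_
  ext a b
  by_cases hab : a = b
  · subst hab
    rw [(hF.pos_ut hu).apply_self one_pos, Units.val_one, Matrix.one_apply_eq]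
  · obtain ⟨c, rfl⟩ := hF.mem_diagonal_iff.1 hd
    rw [Units.val_one, Matrix.one_apply_ne hab, hT, dU_val, diagC, Matrix.diagonal_apply_ne _ hab]

/-- The centraliser of a regular diagonal element is diagonal. -/
theorem mem_diagonal_of_commute (hF : Facts D co) (hC : CommF.{v} D) {χ : ℕ → Fˣ}
    (hχ : IsWeight D (fun r => Additive.ofMul (χ r)))
    (hne : ∀ r < D.nroots, χ r ≠ 1)
    (hinj : ∀ r < D.nroots, ∀ s < D.nroots, χ r = χ s → r = s)
    (hD : dU D χ ∈ D.diagonalSubgroup F) {g : GL D.Idx F} (hg : g ∈ D.group F)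
    (hcomm : dU D χ * g = g * dU D χ) : g ∈ D.diagonalSubgroup F := by
  obtain ⟨b, hb, n, hn, σ, hσ, u, hu, rfl⟩ := hF.bruhat_exists hC hg
  set d := dU D χ with hd
  have hflip : d * u * d⁻¹ ∈ rootClosure D F (PosFlip σ) :=
    (Subgroup.mem_normalizer_iff.1 (hF.diagonal_le_normalizer (PosFlip σ) hD) u).1 hu
  have hdb : d ∈ D.borelSubgroup F := hF.diagonal_le_borel hD
  -- `n d n⁻¹` is diagonal
  have hdN : d ∈ D.monomialSubgroup F := Subgroup.mem_sup_left hD
  have ht : n * d * n⁻¹ ∈ D.diagonalSubgroup F := by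
    have h1 : (⟨d, hdN⟩ : D.monomialSubgroup F) ∈ (hF.weylHom (F := F)).ker := by
      rw [hF.weylHom_ker]; exact hD
    have h2 := (MonoidHom.normal_ker (hF.weylHom (F := F))).conj_mem _ h1 ⟨n, hn⟩
    rw [hF.weylHom_ker] at h2
    exact h2
  have hb' : d * b * (n * d * n⁻¹)⁻¹ ∈ D.borelSubgroup F :=
    Subgroup.mul_mem _ (Subgroup.mul_mem _ hdb hb)
      (Subgroup.inv_mem _ (hF.diagonal_le_borel ht))
  have he : b * n * u = d * b * (n * d * n⁻¹)⁻¹ * n * (d * u * d⁻¹) := by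
    have e : d * (b * n * u) * d⁻¹ = b * n * u := by rw [hcomm, mul_inv_cancel_right]
    calc b * n * u = d * (b * n * u) * d⁻¹ := e.symm
      _ = _ := by group
  obtain ⟨hbe, hue⟩ := hF.bruhat_unique hσ hb hb' hu hflip he
  have hu1 : u = 1 := pos_eq_one hF hC hχ hne (rootClosure_mono (fun _ _ h => h.2.1) hu) hue.symm
  obtain ⟨u1, hu1', h, hh, rfl⟩ := hF.mem_borel_iff.1 hb
  have hdh : d * h = h * d := by
    obtain ⟨c, rfl⟩ := hF.mem_diagonal_iff.1 hh
    rw [hd, hT]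
    exact (dU_commute _ _).eq
  have e2 : u1⁻¹ * (d * u1 * d⁻¹) = h * (n * d * n⁻¹) * (d * h)⁻¹ := by
    have e3 : d * u1 * d⁻¹ * (d * h) = u1 * h * (n * d * n⁻¹) := by
      rw [eq_mul_inv_iff_mul_eq] at hbe
      rw [hbe]
      group
    rw [eq_mul_inv_iff_mul_eq, mul_assoc, e3]
    group
  have hone : u1⁻¹ * (d * u1 * d⁻¹) = 1 := by
    refine eq_one_of_pos_diag hF (Subgroup.mul_mem _ (Subgroup.inv_mem _ hu1') ?_) ?_
    · exact (Subgroup.mem_normalizer_iff.1 (hF.diagonal_le_normalizer _ hD) u1).1 hu1'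
    · rw [e2]
      exact Subgroup.mul_mem _ (Subgroup.mul_mem _ hh ht)
        (Subgroup.inv_mem _ (Subgroup.mul_mem _ hD hh))
  have hu11 : u1 = 1 := pos_eq_one hF hC hχ hne hu1' (inv_mul_eq_one.1 hone).symm
  have hnd : n * d = d * n := by
    rw [hone, hdh, eq_comm, mul_inv_eq_one, mul_right_inj] at e2
    rw [mul_inv_eq_iff_eq_mul] at e2
    exact e2
  have hσ1 : σ = 1 := by
    refine Equiv.ext fun s => ?_
    obtain ⟨c, hc, h1, -⟩ := hσ s
    have e4 : n * (d * xU D s.val 1 * d⁻¹) * n⁻¹ = d * (n * xU D s.val 1 * n⁻¹) * d⁻¹ := by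
      calc n * (d * xU D s.val 1 * d⁻¹) * n⁻¹ = (n * d) * xU D s.val 1 * (n * d)⁻¹ := by group
        _ = (d * n) * xU D s.val 1 * (d * n)⁻¹ := by rw [hnd]
        _ = _ := by group
    rw [hd, hF.dU_conj hχ s.isLt, mul_inv_cancel_right, h1, h1, hF.dU_conj hχ (σ s).isLt,
      mul_inv_cancel_right] at e4
    have e5 : c * ((χ s.val : F) * 1) = (χ (σ s).val : F) * (c * 1) := by
      have e6 : xU D (σ s).val (c * ((χ s.val : F) * 1) - (χ (σ s).val : F) * (c * 1)) = 1 := by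
        rw [sub_eq_add_neg, ← hF.xU_add (σ s).isLt, ← hF.xU_inv (σ s).isLt, e4, mul_inv_cancel]
      exact sub_eq_zero.1 (hF.xU_eq_one (σ s).isLt e6)
    rw [mul_one, mul_one, mul_comm c] at e5
    exact Fin.ext (hinj _ (σ s).isLt _ s.isLt (Units.ext (mul_right_cancel₀ hc e5).symm))
  rw [hu11, hu1, one_mul, mul_one]
  exact Subgroup.mul_mem _ hh (hF.mem_diagonal_of_permAct hn (hσ1 ▸ hσ))

end CfsgLib.Known.G2Singer
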