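import Cfsg.Agent.Lib.Known.G2Singer.Hom
import Cfsg.Agent.Lib.Known.G2Singer.Regular

/-!
A self-centralising cyclic subgroup of order `q² + q + 1` of `G₂(q)`.
-/

set_option autoImplicit false
set_option maxRecDepth 8000

namespace CfsgLib.Known.G2Singer

open Cfsg.Lie CfsgLib.Chev

/-- The pairing of a root with the two long simple roots of the `A₂` subsystem. -/
def pq (s : ℕ) : ℤ × ℤ := (prE chevG2 6 s, prE chevG2 10 s)

/-- The exponent of the Singer element at a root. -/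
def expo (q : ℤ) (s : ℕ) : ℤ := (pq s).1 + (pq s).2 + q * (pq s).2

theorem pq_bound : ∀ s : Fin 12, -4 ≤ (pq s).1 + (pq s).2 ∧ (pq s).1 + (pq s).2 ≤ 4 ∧
    -2 ≤ (pq s).2 ∧ (pq s).2 ≤ 2 := by decide +kernel

theorem pq_inj : ∀ r s : Fin 12, (pq r).1 + (pq r).2 = (pq s).1 + (pq s).2 →
    (pq r).2 = (pq s).2 → r = s := by decide +kernel

theorem pq_ne : ∀ r : Fin 12, (pq r).1 + (pq r).2 = 0 → (pq r).2 ≠ 0 := by decide +kernel

theorem small_check : ∀ k : Fin 6, ∀ r : Fin 12,
    expo (k.val + 3 : ℤ) r % ((k.val + 3 : ℤ) ^ 2 + (k.val + 3 : ℤ) + 1) ≠ 0 ∧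
    ∀ s : Fin 12, (expo (k.val + 3 : ℤ) r - expo (k.val + 3 : ℤ) s) %
      ((k.val + 3 : ℤ) ^ 2 + (k.val + 3 : ℤ) + 1) = 0 → r = s := by decide +kernel

theorem zero_of_dvd {q A B : ℤ} (hq : 9 ≤ q) (hA : -8 ≤ A) (hA' : A ≤ 8) (hB : -4 ≤ B) (hB' : B ≤ 4)
    (h : q ^ 2 + q + 1 ∣ A + q * B) : A = 0 ∧ B = 0 := by
  have h1 : A + q * B < q ^ 2 + q + 1 := by nlinarith
  have h2 : -(q ^ 2 + q + 1) < A + q * B := by nlinarith
  have h0 : A + q * B = 0 := by
    obtain ⟨k, hk⟩ := h
    have : k = 0 := by nlinarith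
    rw [hk, this, mul_zero]
  have hB0 : B = 0 := by nlinarith
  subst hB0
  exact ⟨by linarith, rfl⟩

theorem expo_regular {q : ℕ} (hq : 3 ≤ q) :
    (∀ r < 12, ¬ ((q ^ 2 + q + 1 : ℕ) : ℤ) ∣ expo q r) ∧
    ∀ r < 12, ∀ s < 12, ((q ^ 2 + q + 1 : ℕ) : ℤ) ∣ expo q r - expo q s → r = s := by
  push_cast
  by_cases h9 : 9 ≤ q
  · have hq' : (9 : ℤ) ≤ q := by exact_mod_cast h9
    refine ⟨fun r hr h => ?_, fun r hr s hs h => ?_⟩
    · obtain ⟨a1, a2, a3, a4⟩ := pq_bound ⟨r, hr⟩
      simp only at a1 a2 a3 a4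
      obtain ⟨e1, e2⟩ := zero_of_dvd hq' (A := (pq r).1 + (pq r).2) (B := (pq r).2) (by linarith)
        (by linarith) (by linarith) (by linarith) h
      exact pq_ne ⟨r, hr⟩ e1 e2
    · obtain ⟨a1, a2, a3, a4⟩ := pq_bound ⟨r, hr⟩
      obtain ⟨b1, b2, b3, b4⟩ := pq_bound ⟨s, hs⟩
      simp only at a1 a2 a3 a4 b1 b2 b3 b4
      have h' : (q : ℤ) ^ 2 + q + 1 ∣
          ((pq r).1 + (pq r).2 - ((pq s).1 + (pq s).2)) + q * ((pq r).2 - (pq s).2) := by
        convert h using 1
        simp only [expo]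
        ring
      obtain ⟨e1, e2⟩ := zero_of_dvd hq' (by linarith) (by linarith) (by linarith) (by linarith) h'
      exact Fin.mk.inj_iff.1 (pq_inj ⟨r, hr⟩ ⟨s, hs⟩ (sub_eq_zero.1 e1) (sub_eq_zero.1 e2))
  · obtain ⟨k, rfl⟩ : ∃ k, q = k + 3 := ⟨q - 3, by omega⟩
    have hc : (((k + 3 : ℕ)) : ℤ) = (k : ℤ) + 3 := by push_cast; ring
    have hk := small_check ⟨k, by omega⟩
    refine ⟨fun r hr h => (hk ⟨r, hr⟩).1 (Int.emod_eq_zero_of_dvd (by push_cast at h ⊢; exact h)),
      fun r hr s hs h => Fin.mk.inj_iff.1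
        ((hk ⟨r, hr⟩).2 ⟨s, hs⟩ (Int.emod_eq_zero_of_dvd (by push_cast at h ⊢; exact h)))⟩

section Witness

variable {K : Type} [Field K] [Finite K]

/-- The monomial word of a pair of indices. -/
noncomputable def wEl {i j : Fin 3} (h : i ≠ j) (t : K) : Matrix.SpecialLinearGroup (Fin 3) K :=
  Matrix.SpecialLinearGroup.transvection h t *
    Matrix.SpecialLinearGroup.transvection h.symm (-t⁻¹) *
    Matrix.SpecialLinearGroup.transvection h t

theorem psi_wEl {i j : Fin 3} (h : i ≠ j) (t : K) : psi (wEl h t) = nU chevG2 (idx i j) t := by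
  rw [wEl, map_mul, map_mul, psi_transvection, psi_transvection, nU, idx_swap i j h]
  rfl

/-- The diagonal element `diag(a, a⁻¹ b, b⁻¹)` as a word. -/
noncomputable def dEl (a b : K) : Matrix.SpecialLinearGroup (Fin 3) K :=
  wEl (show (0 : Fin 3) ≠ 1 by decide) a * wEl (show (0 : Fin 3) ≠ 1 by decide) (-1) *
    (wEl (show (1 : Fin 3) ≠ 2 by decide) b * wEl (show (1 : Fin 3) ≠ 2 by decide) (-1))

theorem dEl_val {a b : K} (ha : a ≠ 0) (hb : b ≠ 0) :
    (dEl a b : Matrix (Fin 3) (Fin 3) K) = Matrix.diagonal ![a, a⁻¹ * b, b⁻¹] := by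
  have e01 : (wEl (show (0 : Fin 3) ≠ 1 by decide) a * wEl (show (0 : Fin 3) ≠ 1 by decide) (-1) :
      Matrix.SpecialLinearGroup (Fin 3) K).1 = Matrix.diagonal ![a, a⁻¹, 1] := by
    simp only [wEl, Matrix.SpecialLinearGroup.coe_mul]
    ext p r
    fin_cases p <;> fin_cases r <;>
      simp [Matrix.SpecialLinearGroup.transvection, Matrix.transvection, Matrix.mul_apply,
        Fin.sum_univ_three, Matrix.single_apply, ha]
  have e12 : (wEl (show (1 : Fin 3) ≠ 2 by decide) b * wEl (show (1 : Fin 3) ≠ 2 by decide) (-1) :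
      Matrix.SpecialLinearGroup (Fin 3) K).1 = Matrix.diagonal ![1, b, b⁻¹] := by
    simp only [wEl, Matrix.SpecialLinearGroup.coe_mul]
    ext p r
    fin_cases p <;> fin_cases r <;>
      simp [Matrix.SpecialLinearGroup.transvection, Matrix.transvection, Matrix.mul_apply,
        Fin.sum_univ_three, Matrix.single_apply, hb]
  rw [dEl, Matrix.SpecialLinearGroup.coe_mul, e01, e12, Matrix.diagonal_mul_diagonal]
  congr 1
  funext p
  fin_cases p <;> simp

theorem psi_dEl (a b : Kˣ) : psi (dEl (a : K) (b : K)) =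
    dU chevG2 (fun s => prChar chevG2 6 a s * prChar chevG2 10 b s) := by
  rw [dEl, map_mul, map_mul, map_mul, psi_wEl, psi_wEl, psi_wEl, psi_wEl, ← dU_mul,
    ← facts.hU_eq (r := 6) (idx_lt 0 1), ← facts.hU_eq (r := 10) (idx_lt 1 2)]
  rfl

theorem psi_dEl_diagonal (a b : Kˣ) :
    psi (dEl (a : K) (b : K)) ∈ chevG2.diagonalSubgroup K := by
  rw [psi_dEl, ← dU_mul, ← facts.hU_eq (r := 6) (idx_lt 0 1), ← facts.hU_eq (r := 10) (idx_lt 1 2)]
  exact Subgroup.mul_mem _ (facts.hU_mem_diagonal (idx_lt 0 1) a.ne_zero)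
    (facts.hU_mem_diagonal (idx_lt 1 2) b.ne_zero)

/-- The Singer character. -/
def chi (q : ℕ) (a : Kˣ) (s : ℕ) : Kˣ := a ^ expo q s

theorem chi_eq (q : ℕ) (a : Kˣ) (s : ℕ) :
    chi q a s = prChar chevG2 6 a s * prChar chevG2 10 (a ^ (1 + q)) s := by
  rw [chi, prChar, prChar, ← zpow_natCast, ← zpow_mul, ← zpow_add, expo, pq]
  congr 1
  push_cast
  ring

theorem isWeight_chi (q : ℕ) (a : Kˣ) :
    IsWeight chevG2 (fun s => Additive.ofMul (chi q a s)) := by
  refine ⟨fun r hr => ?_, fun r hr s hs k h => ?_⟩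
  · show Additive.ofMul (chi q a (chevG2.neg r)) = -Additive.ofMul (chi q a r)
    rw [chi_eq, chi_eq, ← ofMul_inv]
    have h1 := (facts.isWeight_prChar (F := K) (r := 6) (idx_lt 0 1) a).neg r hr
    have h2 := (facts.isWeight_prChar (F := K) (r := 10) (idx_lt 1 2) (a ^ (1 + q))).neg r hr
    rw [ofMul_mul, h1, h2, ← ofMul_inv, ← ofMul_inv, ← ofMul_mul, mul_inv]
  · show Additive.ofMul (chi q a k) = Additive.ofMul (chi q a r) + Additive.ofMul (chi q a s)
    have h1 := (facts.isWeight_prChar (F := K) (r := 6) (idx_lt 0 1) a).add r hr s hs k h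
    have h2 := (facts.isWeight_prChar (F := K) (r := 10) (idx_lt 1 2) (a ^ (1 + q))).add r hr s hs k h
    rw [chi_eq, chi_eq, chi_eq, ofMul_mul, h1, h2, ofMul_mul, ofMul_mul]
    abel

end Witness

theorem e1_e2_e3 : expo 0 8 = 1 ∧ pq 8 = (1, 0) ∧ pq 7 = (-1, 1) ∧ pq 2 = (0, -1) := by
  decide +kernel

theorem cartan_short : chevG2.cartan 0 8 = -1 ∧ chevG2.cartan 1 8 = 1 ∧ chevG2.cartan 0 7 = 2 ∧
    chevG2.cartan 1 7 = -1 ∧ chevG2.cartan 0 2 = -1 ∧ chevG2.cartan 1 2 = 0 := by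
  decide +kernel

theorem hT_entry {K : Type} [Field K] (c : ℕ → Kˣ) (s : Fin chevG2.nroots) :
    (hT chevG2 c : Matrix chevG2.Idx chevG2.Idx K) (Sum.inr s) (Sum.inr s) =
      ((c 0 ^ chevG2.cartan 0 s.val * c 1 ^ chevG2.cartan 1 s.val : Kˣ) : K) := by
  rw [hT, dU_val, diagC, Matrix.diagonal_apply_eq]
  show ((∏ i ∈ Finset.range chevG2.rank, c i ^ chevG2.cartan i s.val : Kˣ) : K) = _
  rw [show chevG2.rank = 2 from rfl, Finset.prod_range_succ, Finset.prod_range_one]

/-- The root `e₁ = a + b`. -/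
def s8 : Fin chevG2.nroots := ⟨8, by decide⟩
/-- The root `e₂ = a`. -/
def s7 : Fin chevG2.nroots := ⟨7, by decide⟩
/-- The root `e₃ = -2a - b`. -/
def s2 : Fin chevG2.nroots := ⟨2, by decide⟩

theorem hT_short {K : Type} [Field K] (c : ℕ → Kˣ) :
    (hT chevG2 c : Matrix chevG2.Idx chevG2.Idx K) (Sum.inr s8) (Sum.inr s8) *
      (hT chevG2 c : Matrix chevG2.Idx chevG2.Idx K) (Sum.inr s7) (Sum.inr s7) *
      (hT chevG2 c : Matrix chevG2.Idx chevG2.Idx K) (Sum.inr s2) (Sum.inr s2) = 1 := by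
  obtain ⟨a, b, a', b', a'', b''⟩ := cartan_short
  rw [hT_entry, hT_entry, hT_entry, s8, s7, s2, a, b, a', b', a'', b'']
  push_cast
  simp only [zpow_neg, zpow_one, zpow_two, zpow_zero, mul_one]
  field_simp

theorem hT_eq_of_short {K : Type} [Field K] (c d : ℕ → Kˣ)
    (h8 : (hT chevG2 c : Matrix chevG2.Idx chevG2.Idx K) (Sum.inr s8) (Sum.inr s8) =
      (hT chevG2 d : Matrix chevG2.Idx chevG2.Idx K) (Sum.inr s8) (Sum.inr s8))
    (h7 : (hT chevG2 c : Matrix chevG2.Idx chevG2.Idx K) (Sum.inr s7) (Sum.inr s7) =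
      (hT chevG2 d : Matrix chevG2.Idx chevG2.Idx K) (Sum.inr s7) (Sum.inr s7)) :
    hT chevG2 c = hT chevG2 d := by
  obtain ⟨a, b, a', b', -⟩ := cartan_short
  rw [hT_entry, hT_entry, s8, a, b] at h8
  rw [hT_entry, hT_entry, s7, a', b'] at h7
  have k8 := Units.ext h8
  have k7 := Units.ext h7
  have e0 : c 0 = d 0 := by
    have aux : ∀ x y : Kˣ, x = x ^ (-1 : ℤ) * y ^ (1 : ℤ) * (x ^ (2 : ℤ) * y ^ (-1 : ℤ)) :=
      fun x y => by rw [mul_mul_mul_comm, ← zpow_add, ← zpow_add]; simp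
    rw [aux (c 0) (c 1), k8, k7, ← aux]
  have e1 : c 1 = d 1 := by
    simp only [zpow_neg, zpow_one, e0] at k8
    exact mul_left_cancel k8
  have key : ∀ i ∈ Finset.range chevG2.rank, c i = d i := fun i hi => by
    rw [Finset.mem_range, show chevG2.rank = 2 from rfl] at hi
    interval_cases i
    · exact e0
    · exact e1
  exact dU_congr fun s _ => Finset.prod_congr rfl fun i hi => by rw [key i hi]

theorem extGL_comp {F K L : Type*} [Field F] [Field K] [Field L] (ι : F →+* K) (σ : K →+* L)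
    (x : GL chevG2.Idx F) : extGL σ (extGL ι x) = extGL (σ.comp ι) x :=
  Units.ext (Matrix.map_map (M := (x : Matrix chevG2.Idx chevG2.Idx F)))

theorem extGL_injective {F K : Type*} [Field F] [Field K] (ι : F →+* K) :
    Function.Injective (extGL ι) := fun x y h => Units.ext (Matrix.map_injective ι.injective
      (congrArg (fun g : GL chevG2.Idx K => (g : Matrix chevG2.Idx chevG2.Idx K)) h))

theorem extGL_mem_group {F K : Type*} [Field F] [Field K] (ι : F →+* K) {x : GL chevG2.Idx F}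
    (hx : x ∈ chevG2.group F) : extGL ι x ∈ chevG2.group K := by
  rw [facts.group_eq] at hx ⊢
  refine (Subgroup.closure_le (K := (rootClosure chevG2 K fun _ => True).comap (extGL ι))).2 ?_ hx
  rintro y ⟨r, t, hr, -, rfl⟩
  rw [SetLike.mem_coe, Subgroup.mem_comap, extGL_xU ι hr]
  exact xU_mem_rootClosure hr trivial _

/-- Existence of the companion matrix data. -/
theorem exists_companion {F : Type*} [Field F] {K : Type} [Field K] (ι : F →+* K)
    (v : Fin 3 → K) (hv : Function.Injective v) (hprod : v 0 * v 1 * v 2 = 1)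
    (h1 : ∃ c, ι c = -(v 0 * v 1 + v 0 * v 2 + v 1 * v 2))
    (h2 : ∃ c, ι c = v 0 + v 1 + v 2) :
    ∃ (S : Matrix.SpecialLinearGroup (Fin 3) F) (g : Matrix.SpecialLinearGroup (Fin 3) K),
      (Matrix.SpecialLinearGroup.map ι S : Matrix (Fin 3) (Fin 3) K) * g =
        g * Matrix.diagonal v := by
  obtain ⟨c1, h1⟩ := h1
  obtain ⟨c2, h2⟩ := h2
  have hδ : (v 1 - v 0) * (v 2 - v 0) * (v 2 - v 1) ≠ 0 :=
    mul_ne_zero (mul_ne_zero (sub_ne_zero.2 fun h => by simpa using hv h)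
      (sub_ne_zero.2 fun h => by simpa using hv h)) (sub_ne_zero.2 fun h => by simpa using hv h)
  set δ := (v 1 - v 0) * (v 2 - v 0) * (v 2 - v 1) with hδdef
  refine ⟨⟨!![0, 1, 0; 0, 0, 1; 1, c1, c2], by simp [Matrix.det_fin_three]⟩,
    ⟨!![δ⁻¹, 1, 1; δ⁻¹ * v 0, v 1, v 2; δ⁻¹ * v 0 ^ 2, v 1 ^ 2, v 2 ^ 2], ?_⟩, ?_⟩
  · rw [Matrix.det_fin_three]
    simp only [Matrix.of_apply, Matrix.cons_val', Matrix.cons_val_zero, Matrix.cons_val_one,
      Matrix.cons_val_two, Matrix.empty_val', Matrix.cons_val_fin_one, Matrix.head_cons,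
      Matrix.tail_cons, Matrix.head_fin_const]
    field_simp
    rw [hδdef]
    ring
  · have hcube : ∀ x, x = v 0 ∨ x = v 1 ∨ x = v 2 →
        1 + ι c1 * x + ι c2 * x ^ 2 = x ^ 3 := fun x hx => by
      rw [h1, h2, ← hprod]
      rcases hx with rfl | rfl | rfl <;> ring
    have k0 := hcube (v 0) (.inl rfl)
    have k1 := hcube (v 1) (.inr (.inl rfl))
    have k2 := hcube (v 2) (.inr (.inr rfl))
    rw [show ((Matrix.SpecialLinearGroup.map ι) ⟨!![0, 1, 0; 0, 0, 1; 1, c1, c2],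
        by simp [Matrix.det_fin_three]⟩ : Matrix (Fin 3) (Fin 3) K) =
        !![0, 1, 0; 0, 0, 1; 1, ι c1, ι c2] by
      ext p r
      change ι ((!![0, 1, 0; 0, 0, 1; 1, c1, c2] : Matrix (Fin 3) (Fin 3) F) p r) = _
      fin_cases p <;> fin_cases r <;> simp]
    ext p r
    fin_cases p <;> fin_cases r <;>
      simp [Matrix.mul_apply, Fin.sum_univ_three, Matrix.diagonal] <;>
      first
        | ring1
        | linear_combination δ⁻¹ * k0
        | linear_combination k1
        | linear_combination k2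

theorem exists_fixed_preimage {F K : Type*} [Field F] [Finite F] [Field K] (ι : F →+* K) {x : K}
    (h : x ^ Nat.card F = x) : ∃ c, ι c = x := by
  classical
  haveI := Fintype.ofFinite F
  have hq : 1 < Nat.card F := Finite.one_lt_card
  have hP : (Polynomial.X ^ Nat.card F - Polynomial.X : Polynomial K) ≠ 0 := fun e => by
    have := congrArg (fun P : Polynomial K => P.coeff (Nat.card F)) e
    simp [Polynomial.coeff_X, (Fintype.one_lt_card (α := F)).ne] at this
  have hsub : Finset.univ.image ι ⊆ (Polynomial.X ^ Nat.card F - Polynomial.X : Polynomial K).roots.toFinset := by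
    intro y hy
    obtain ⟨c, -, rfl⟩ := Finset.mem_image.1 hy
    rw [Multiset.mem_toFinset, Polynomial.mem_roots hP]
    simp [← map_pow, Nat.card_eq_fintype_card, FiniteField.pow_card]
  have hcard : (Polynomial.X ^ Nat.card F - Polynomial.X : Polynomial K).roots.toFinset.card ≤
      (Finset.univ.image ι).card := by
    rw [Finset.card_image_of_injective _ ι.injective, Finset.card_univ, ← Nat.card_eq_fintype_card]
    refine (Multiset.toFinset_card_le _).trans ((Polynomial.card_roots' _).trans ?_)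
    refine (Polynomial.natDegree_sub_le _ _).trans ?_
    simp [(Fintype.one_lt_card (α := F)).le]
  have hx : x ∈ Finset.univ.image ι := by
    rw [Finset.eq_of_subset_of_card_le hsub hcard, Multiset.mem_toFinset, Polynomial.mem_roots hP]
    rw [Nat.card_eq_fintype_card] at h
    simp [h]
  obtain ⟨c, -, hc⟩ := Finset.mem_image.1 hx
  exact ⟨c, hc⟩

theorem main {F : Type*} [Field F] [Finite F] (q : ℕ) (hq : Nat.card F = q) (h3 : 3 ≤ q) :
    ∃ H : Subgroup ↥(chevG2.group F), IsCyclic ↥H ∧ Nat.card ↥H = q ^ 2 + q + 1 ∧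
      Subgroup.centralizer (H : Set ↥(chevG2.group F)) = H := by
  classical
  haveI := Fintype.ofFinite F
  obtain ⟨p, hp⟩ := CharP.exists F
  obtain ⟨f, hpp, hf⟩ := FiniteField.card F p
  haveI : Fact p.Prime := ⟨hpp⟩
  have hqf : q = p ^ (f : ℕ) := by rw [← hq, Nat.card_eq_fintype_card, hf]
  let K := FiniteField.Extension F p 3
  let ι : F →+* K := algebraMap F K
  haveI : CharP K p := charP_of_injective_ringHom ι.injective p
  let σ : K →+* K := iterateFrobenius K p f
  have hσ : ∀ x, σ x = x ^ q := fun x => by rw [hqf]; exact iterateFrobenius_def p f x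
  have hσι : σ.comp ι = ι := RingHom.ext fun x => by
    rw [RingHom.comp_apply, hσ, ← map_pow, ← hq, Nat.card_eq_fintype_card, FiniteField.pow_card]
  obtain ⟨N, hN⟩ : ∃ N, N = q ^ 2 + q + 1 := ⟨_, rfl⟩
  obtain ⟨a, ha⟩ : ∃ a : Kˣ, orderOf a = N := by
    haveI := Fintype.ofFinite K
    obtain ⟨g, hg⟩ := IsCyclic.exists_generator (α := Kˣ)
    have hgo : orderOf g = q ^ 3 - 1 := by
      rw [orderOf_eq_card_of_forall_mem_zpowers hg, Nat.card_units,
        FiniteField.natCard_extension, hq]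
    have hfac : q ^ 3 - 1 = (q - 1) * N := by
      obtain ⟨m, rfl⟩ : ∃ m, q = m + 1 := ⟨q - 1, by omega⟩
      have e : (m + 1) ^ 3 = m * N + 1 := by rw [hN]; ring
      rw [e]; simp
    refine ⟨g ^ (q - 1), ?_⟩
    rw [orderOf_pow' g (by omega), hgo, hfac, Nat.gcd_mul_right_left,
      Nat.mul_div_cancel_left _ (by omega)]
  obtain ⟨hne', hinj'⟩ := expo_regular h3
  have hzp : ∀ i j : ℤ, a ^ i = a ^ j ↔ (N : ℤ) ∣ i - j := fun i j => by
    rw [← ha, orderOf_dvd_iff_zpow_eq_one, zpow_sub, mul_inv_eq_one]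
  set χ : ℕ → Kˣ := chi q a with hχ
  have hne : ∀ r < chevG2.nroots, χ r ≠ 1 := fun r hr e => hne' r hr (by
    rw [hχ, chi, ← zpow_zero a, hzp, sub_zero, hN] at e; exact e)
  have hinj : ∀ r < chevG2.nroots, ∀ s < chevG2.nroots, χ r = χ s → r = s :=
    fun r hr s hs e => hinj' r hr s hs (by rw [hχ, chi, chi, hzp, hN] at e; exact e)
  have haN : a ^ N = 1 := ha ▸ pow_orderOf_eq_one a
  set v : Fin 3 → K := ![(a : K), (a : K) ^ q, (a : K) ^ (q * q)] with hv
  obtain ⟨he0, h8, h7, h2⟩ := e1_e2_e3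
  have x8 : χ 8 = a := by simp [hχ, chi, expo, h8]
  have x7 : χ 7 = a ^ q := by simp [hχ, chi, expo, h7]
  have x2 : χ 2 = a ^ (q * q) := by
    rw [hχ, chi, expo, h2, ← zpow_natCast, hzp, hN]
    refine ⟨-1, ?_⟩
    push_cast
    ring
  have hvq : ∀ i, σ (v i) = v (i + 1) := by
    intro i
    rw [hσ]
    fin_cases i
    · simp [hv]
    · simp [hv, ← pow_mul]
    · show ((a : K) ^ (q * q)) ^ q = (a : K)
      rw [← pow_mul, ← Units.val_pow_eq_pow_val]
      congr 1
      have e : q * q * q = (q - 1) * N + 1 := by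
        obtain ⟨m, rfl⟩ : ∃ m, q = m + 1 := ⟨q - 1, by omega⟩
        rw [hN, Nat.add_sub_cancel]; ring
      rw [e, pow_succ, pow_mul', haN, one_pow, one_mul]
  have hvinj : Function.Injective v := by
    have h78 : a ≠ a ^ q := fun e => absurd (hinj 8 (by decide) 7 (by decide) (x8.trans (e.trans x7.symm))) (by norm_num)
    have h28 : a ≠ a ^ (q * q) := fun e => absurd (hinj 8 (by decide) 2 (by decide) (x8.trans (e.trans x2.symm))) (by norm_num)
    have h27 : a ^ q ≠ a ^ (q * q) := fun e => absurd (hinj 7 (by decide) 2 (by decide) (x7.trans (e.trans x2.symm))) (by norm_num)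
    intro i j e
    fin_cases i <;> fin_cases j <;> simp [hv, ← Units.val_pow_eq_pow_val, Units.val_inj, h78, h28,
      h27, h78.symm, h28.symm, h27.symm] at e ⊢
  have hprod : v 0 * v 1 * v 2 = 1 := by
    show (a : K) * (a : K) ^ q * (a : K) ^ (q * q) = 1
    rw [← pow_succ', ← pow_add, ← Units.val_pow_eq_pow_val,
      show q + 1 + q * q = N by rw [hN]; ring, haN, Units.val_one]
  obtain ⟨S, g, hSg⟩ := exists_companion ι v hvinj hprod
    (exists_fixed_preimage ι (by
      rw [hq, ← hσ, map_neg, map_add, map_add, map_mul, map_mul, map_mul, hvq, hvq, hvq]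
      show -(v 1 * v 2 + v 1 * v 0 + v 2 * v 0) = _
      ring))
    (exists_fixed_preimage ι (by
      rw [hq, ← hσ, map_add, map_add, hvq, hvq, hvq]
      show v 1 + v 2 + v 0 = _
      ring))
  set d : GL chevG2.Idx K := dU chevG2 χ with hd
  have hdψ : d = psi (dEl (a : K) ((a ^ (1 + q) : Kˣ) : K)) := by
    rw [psi_dEl]
    exact dU_congr fun s _ => chi_eq q a s
  have hdD : d ∈ chevG2.diagonalSubgroup K := hdψ ▸ psi_dEl_diagonal a (a ^ (1 + q))
  set h : GL chevG2.Idx F := psi S with hh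
  set P : GL chevG2.Idx K := psi g with hP
  have hconj : extGL ι h * P = P * d := by
    rw [hh, ← psi_map, hP, hdψ, ← map_mul, ← map_mul]
    congr 1
    refine Subtype.ext ?_
    rw [Matrix.SpecialLinearGroup.coe_mul, Matrix.SpecialLinearGroup.coe_mul, hSg,
      dEl_val a.ne_zero (Units.ne_zero _)]
    congr 2
    funext i
    fin_cases i
    · rfl
    · show (a : K) ^ q = (a : K)⁻¹ * ((a ^ (1 + q) : Kˣ) : K)
      rw [Units.val_pow_eq_pow_val, pow_add, pow_one, inv_mul_cancel_left₀ a.ne_zero]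
    · show (a : K) ^ (q * q) = ((a ^ (1 + q) : Kˣ) : K)⁻¹
      rw [← Units.val_inv_eq_inv_val, ← Units.val_pow_eq_pow_val]
      congr 1
      rw [eq_inv_iff_mul_eq_one, ← pow_add, show q * q + (1 + q) = N by rw [hN]; ring, haN]
  set M : GL chevG2.Idx K := P⁻¹ * extGL σ P with hM
  have hfix : extGL σ (extGL ι h) = extGL ι h := by rw [extGL_comp, hσι]
  have key : ∀ x : GL chevG2.Idx F, ∀ x' : GL chevG2.Idx K, extGL ι x * P = P * x' →
      x' * M = M * extGL σ x' := by
    intro x x' hx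
    have hx2 := congrArg (extGL σ) hx
    rw [map_mul, map_mul, extGL_comp, hσι] at hx2
    calc x' * M = P⁻¹ * (P * x') * P⁻¹ * extGL σ P := by rw [hM]; group
      _ = P⁻¹ * (extGL ι x * P) * P⁻¹ * extGL σ P := by rw [hx]
      _ = P⁻¹ * (extGL ι x * extGL σ P) := by group
      _ = M * extGL σ x' := by rw [hx2, hM]; group
  -- entries of `M`
  have hdM : (d : Matrix chevG2.Idx chevG2.Idx K) * (M : Matrix chevG2.Idx chevG2.Idx K) =
      (M : Matrix chevG2.Idx chevG2.Idx K) * (extGL σ d : GL chevG2.Idx K) := by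
    rw [← Units.val_mul, ← Units.val_mul, key h d hconj]
  let e : chevG2.Idx → K := Sum.elim (fun _ => 1) (fun s => ((χ s.val : Kˣ) : K))
  have hentry : ∀ i j, e i * (M : Matrix chevG2.Idx chevG2.Idx K) i j =
      (M : Matrix chevG2.Idx chevG2.Idx K) i j * (e j) ^ q := by
    intro i j
    have hσd : ((extGL σ d : GL chevG2.Idx K) : Matrix chevG2.Idx chevG2.Idx K) =
        Matrix.diagonal fun k => e k ^ q := by
      show ((d : GL chevG2.Idx K) : Matrix chevG2.Idx chevG2.Idx K).map σ = _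
      rw [hd, dU_val, diagC, Matrix.diagonal_map (map_zero σ)]
      congr 1
      funext k
      show σ (e k) = _
      rw [hσ]
    have := congrFun (congrFun hdM i) j
    rw [hσd] at this
    simp only [Matrix.mul_diagonal, hd, dU_val, diagC, Matrix.diagonal_mul] at this
    exact this
  have hnext : ∀ s t : Fin chevG2.nroots, χ t.val = χ s.val ^ q →
      (M : Matrix chevG2.Idx chevG2.Idx K) (Sum.inr t) (Sum.inr s) ≠ 0 := by
    intro s t hst h0
    have hcol : ∀ i, (M : Matrix chevG2.Idx chevG2.Idx K) i (Sum.inr s) = 0 := by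
      intro i
      by_contra hne0
      have h1 := hentry i (Sum.inr s)
      rw [mul_comm] at h1
      have h2 : e i = ((χ t.val : Kˣ) : K) := by
        rw [mul_left_cancel₀ hne0 h1, hst, Units.val_pow_eq_pow_val]
        rfl
      rcases i with i | i
      · exact hne t.val t.isLt (Units.ext h2.symm)
      · exact hne0 (by rw [show i = t from Fin.ext (hinj _ i.isLt _ t.isLt (Units.ext h2))]; exact h0)
    have h1 : ((M⁻¹ * M : GL chevG2.Idx K) : Matrix chevG2.Idx chevG2.Idx K) (Sum.inr s) (Sum.inr s) = 1 := by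
      rw [inv_mul_cancel, Units.val_one, Matrix.one_apply_eq]
    rw [Units.val_mul, Matrix.mul_apply, Finset.sum_eq_zero fun i _ => by rw [hcol i, mul_zero]] at h1
    exact zero_ne_one h1
  have hM78 := hnext s8 s7 (by show χ 7 = χ 8 ^ q; rw [x7, x8])
  have hM27 := hnext s7 s2 (by show χ 2 = χ 7 ^ q; rw [x2, x7, ← pow_mul])
  have hhmem : h ∈ chevG2.group F := psi_mem S
  let h' : ↥(chevG2.group F) := ⟨h, hhmem⟩
  let conjK : ↥(chevG2.group F) →* GL chevG2.Idx K :=
    (MulAut.conj P⁻¹).toMonoidHom.comp ((extGL ι).comp (chevG2.group F).subtype)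
  have conj_spec : ∀ x : ↥(chevG2.group F), extGL ι (x : GL chevG2.Idx F) * P = P * conjK x := by
    intro x
    show _ = P * (P⁻¹ * extGL ι (x : GL chevG2.Idx F) * P⁻¹⁻¹)
    group
  have conjK_inj : Function.Injective conjK := fun x y e =>
    Subtype.ext (extGL_injective ι ((MulAut.conj P⁻¹).injective e))
  have conjK_h : conjK h' = d := by
    have := conj_spec h'
    rw [show ((h' : ↥(chevG2.group F)) : GL chevG2.Idx F) = h from rfl, hconj] at this
    exact (mul_left_cancel this).symm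
  have hord : orderOf h' = N := by
    rw [← orderOf_injective conjK conjK_inj, conjK_h]
    refine Nat.dvd_antisymm (orderOf_dvd_of_pow_eq_one ?_) ?_
    · rw [hdψ, ← map_pow, ← map_one (psi (K := K))]
      congr 1
      refine Subtype.ext ?_
      rw [Matrix.SpecialLinearGroup.coe_pow, dEl_val a.ne_zero (Units.ne_zero _),
        Matrix.diagonal_pow, Matrix.SpecialLinearGroup.coe_one, ← Matrix.diagonal_one]
      congr 1
      funext i
      have hb : (((a ^ (1 + q) : Kˣ) : K)) ^ N = 1 := by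
        rw [← Units.val_pow_eq_pow_val, ← pow_mul, pow_mul', haN, one_pow, Units.val_one]
      have haK : (a : K) ^ N = 1 := by rw [← Units.val_pow_eq_pow_val, haN, Units.val_one]
      rw [Units.val_pow_eq_pow_val] at hb
      fin_cases i <;> simp [mul_pow, haK, hb]
    · rw [← ha, orderOf_dvd_iff_pow_eq_one]
      have hp := congrArg (fun g : GL chevG2.Idx K =>
        (g : Matrix chevG2.Idx chevG2.Idx K) (Sum.inr s8) (Sum.inr s8)) (pow_orderOf_eq_one d)
      simp only [hd, Units.val_pow_eq_pow_val, dU_val, diagC, Matrix.diagonal_pow,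
        Matrix.diagonal_apply_eq, Units.val_one, Matrix.one_apply_eq] at hp
      refine Units.ext ?_
      rw [Units.val_pow_eq_pow_val, Units.val_one, ← x8]
      exact hp
  set H : Subgroup ↥(chevG2.group F) := Subgroup.zpowers h' with hH
  have hHc : Nat.card ↥H = N := by rw [hH, Nat.card_zpowers, hord]
  refine ⟨H, inferInstance, hN ▸ hHc, ?_⟩
  set C : Subgroup ↥(chevG2.group F) := Subgroup.centralizer (H : Set ↥(chevG2.group F)) with hC
  have hle : H ≤ C := fun x hx => Subgroup.mem_centralizer_iff.2 fun y hy => by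
    obtain ⟨i, rfl⟩ := Subgroup.mem_zpowers_iff.1 hx
    obtain ⟨j, rfl⟩ := Subgroup.mem_zpowers_iff.1 hy
    rw [← zpow_add, ← zpow_add, add_comm]
  -- the centraliser is diagonalised by `P`
  have hdiag : ∀ x : C, ∃ c : ℕ → Kˣ, conjK x = hT chevG2 c := by
    intro x
    rw [← facts.mem_diagonal_iff]
    refine mem_diagonal_of_commute facts DataG2.commF (isWeight_chi q a) hne hinj hdD ?_ ?_
    · exact Subgroup.mul_mem _ (Subgroup.mul_mem _ (Subgroup.inv_mem _ (psi_mem g))
        (extGL_mem_group ι (x : ↥(chevG2.group F)).2))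
        (Subgroup.inv_mem _ (Subgroup.inv_mem _ (psi_mem g)))
    · rw [← hd, ← conjK_h, ← map_mul, ← map_mul, Subgroup.mem_centralizer_iff.1 x.2 h' (Subgroup.mem_zpowers h')]
  have hrel : ∀ x : C, ∀ c : ℕ → Kˣ, conjK x = hT chevG2 c → ∀ s t : Fin chevG2.nroots,
      (M : Matrix chevG2.Idx chevG2.Idx K) (Sum.inr t) (Sum.inr s) ≠ 0 →
      (hT chevG2 c : Matrix chevG2.Idx chevG2.Idx K) (Sum.inr t) (Sum.inr t) =
        (hT chevG2 c : Matrix chevG2.Idx chevG2.Idx K) (Sum.inr s) (Sum.inr s) ^ q := by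
    intro x c hc s t hst
    have h0 : (hT chevG2 c : Matrix chevG2.Idx chevG2.Idx K) * (M : Matrix chevG2.Idx chevG2.Idx K) =
        (M : Matrix chevG2.Idx chevG2.Idx K) * (extGL σ (hT chevG2 c) : GL chevG2.Idx K) := by
      rw [← Units.val_mul, ← Units.val_mul, ← hc, key _ _ (conj_spec (x : ↥(chevG2.group F)))]
    have h1 := congrFun (congrFun h0 (Sum.inr t)) (Sum.inr s)
    have hσh : ((extGL σ (hT chevG2 c) : GL chevG2.Idx K) : Matrix chevG2.Idx chevG2.Idx K) =
        ((hT chevG2 c : GL chevG2.Idx K) : Matrix chevG2.Idx chevG2.Idx K).map σ := rfl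
    rw [hσh] at h1
    simp only [hT, dU_val, diagC, Matrix.diagonal_map (map_zero σ),
      Matrix.mul_diagonal, Matrix.diagonal_mul, Function.comp_apply, hσ] at h1
    simp only [hT, dU_val, diagC, Matrix.diagonal_apply_eq]
    rw [mul_comm] at h1
    exact mul_left_cancel₀ hst h1
  haveI : NeZero N := ⟨by omega⟩
  have hroot : ∀ x : C, ∃ z : rootsOfUnity N K, ((z : Kˣ) : K) =
      ((conjK x : GL chevG2.Idx K) : Matrix chevG2.Idx chevG2.Idx K) (Sum.inr s8) (Sum.inr s8) := by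
    intro x
    obtain ⟨c, hc⟩ := hdiag x
    have r7 := hrel x c hc s8 s7 hM78
    have r2 := hrel x c hc s7 s2 hM27
    have hs := hT_short c
    rw [r2, r7, ← pow_mul, ← pow_succ', ← pow_add,
      show q + 1 + q * q = N by rw [hN]; ring] at hs
    refine ⟨⟨c 0 ^ chevG2.cartan 0 s8.val * c 1 ^ chevG2.cartan 1 s8.val, ?_⟩, ?_⟩
    · refine (mem_rootsOfUnity _ _).2 (Units.ext ?_)
      rw [Units.val_pow_eq_pow_val, Units.val_one]
      exact (congrArg (· ^ N) (hT_entry c s8).symm).trans hs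
    · rw [hc]
      exact (hT_entry c s8).symm
  choose Φ hΦ using hroot
  have hΦinj : Function.Injective Φ := fun x y e => by
    obtain ⟨c, hc⟩ := hdiag x
    obtain ⟨c', hc'⟩ := hdiag y
    have e8 : (hT chevG2 c : Matrix chevG2.Idx chevG2.Idx K) (Sum.inr s8) (Sum.inr s8) =
        (hT chevG2 c' : Matrix chevG2.Idx chevG2.Idx K) (Sum.inr s8) (Sum.inr s8) := by
      rw [← hc, ← hc', ← hΦ, ← hΦ, e]
    refine Subtype.ext (conjK_inj ?_)
    rw [hc, hc']
    refine hT_eq_of_short c c' e8 ?_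
    rw [hrel x c hc s8 s7 hM78, hrel y c' hc' s8 s7 hM78, e8]
  have hcard : Nat.card C ≤ Nat.card H := hHc ▸
    (Nat.card_le_card_of_injective Φ hΦinj).trans (card_rootsOfUnity ..)
  exact (Subgroup.eq_of_le_of_card_ge hle hcard).symm

end CfsgLib.Known.G2Singer
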