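import Cfsg.Agent.Lib.Chev.All
import Cfsg.Agent.Lib.SLSteinberg.Inject
import Cfsg.Agent.Lib.Classical.SLBasic

/-!
The homomorphism from `SL₃` into the Chevalley group of type `G₂` given by the long roots.
-/

set_option autoImplicit false
set_option maxRecDepth 8000

namespace CfsgLib.Known.G2Singer

open Cfsg.Lie CfsgLib.Chev CfsgLib.SLSteinberg

/-- The long root of a pair of indices. -/
def idx : Fin 3 → Fin 3 → ℕ := ![![0, 6, 11], ![5, 0, 10], ![0, 1, 0]]

theorem facts : Facts chevG2 DataG2.co := DataG2.facts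

theorem idx_lt : ∀ i j, idx i j < chevG2.nroots := by decide +kernel

theorem idx_swap : ∀ i j : Fin 3, i ≠ j → chevG2.neg (idx i j) = idx j i := by decide +kernel

theorem idx_comm0 : ∀ i j k l : Fin 3, i ≠ j → k ≠ l → i ≠ l → j ≠ k →
    idx i j = idx k l ∨ (idx k l ≠ chevG2.neg (idx i j) ∧ chevG2.commTerms (idx i j) (idx k l) = []) := by
  decide +kernel

theorem idx_comm1 : ∀ i j k : Fin 3, i ≠ j → j ≠ k → i ≠ k →
    idx j k ≠ idx i j ∧ idx j k ≠ chevG2.neg (idx i j) ∧
      chevG2.commTerms (idx i j) (idx j k) = [(idx i k, 1, 1, 1)] := by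
  decide +kernel

variable {K : Type*} [Field K]

theorem commute_xU {r s : ℕ} (hr : r < chevG2.nroots) (hs : s < chevG2.nroots)
    (h : r = s ∨ (s ≠ chevG2.neg r ∧ chevG2.commTerms r s = [])) (t u : K) :
    Commute (xU chevG2 r t) (xU chevG2 s u) := by
  show xU chevG2 r t * xU chevG2 s u = xU chevG2 s u * xU chevG2 r t
  rcases eq_or_ne r s with rfl | hne
  · rw [facts.xU_add hr, facts.xU_add hr, add_comm]
  · obtain ⟨hn, hc⟩ := h.resolve_left hne
    rw [facts.xU_comm DataG2.commF hr hs (Ne.symm hne) hn, cwR, hc]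
    simp [wU]

/-- The root element of a pair of indices. -/
noncomputable def xF (i j : Fin 3) (t : K) : GL chevG2.Idx K := xU chevG2 (idx i j) t

theorem xF_add (i j : Fin 3) (t u : K) : xF i j (t + u) = xF i j t * xF i j u :=
  (facts.xU_add (idx_lt i j) t u).symm

theorem xF_comm0 {i j k l : Fin 3} (hij : i ≠ j) (hkl : k ≠ l) (hil : i ≠ l) (hjk : j ≠ k)
    (t u : K) : Commute (xF i j t) (xF k l u) :=
  commute_xU (idx_lt i j) (idx_lt k l) (idx_comm0 i j k l hij hkl hil hjk) t u

theorem xF_comm1 {i j k : Fin 3} (hij : i ≠ j) (hjk : j ≠ k) (hik : i ≠ k) (t u : K) :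
    xF i j t * xF j k u * (xF i j t)⁻¹ = xF i k (t * u) * xF j k u := by
  obtain ⟨hne, hn, hc⟩ := idx_comm1 i j k hij hjk hik
  have e : xF j k u * xF i j t = xF i j t * xF j k u * xF i k (-(t * u)) := by
    rw [xF, xF, facts.xU_comm DataG2.commF (idx_lt i j) (idx_lt j k) hne hn, cwR, hc]
    simp [wU, xF]
  have hz : (xF i k (-(t * u)) : GL chevG2.Idx K) = (xF i k (t * u))⁻¹ :=
    (facts.xU_inv (idx_lt i k) (t * u)).symm
  rw [hz, eq_mul_inv_iff_mul_eq] at e
  have c1 : Commute (xF i j t) (xF i k (t * u)) := xF_comm0 hij hik hik hij.symm t (t * u)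
  have c2 : Commute (xF j k u) (xF i k (t * u)) := xF_comm0 hjk hik hjk hik.symm u (t * u)
  rw [← e, mul_assoc (xF j k u), c1.eq, ← mul_assoc, mul_inv_cancel_right, c2.eq]

theorem sl_comm0 {i j k l : Fin 3} (hij : i ≠ j) (hkl : k ≠ l) (hil : i ≠ l) (hjk : j ≠ k)
    (t u : K) : Commute (Matrix.SpecialLinearGroup.transvection hij t)
      (Matrix.SpecialLinearGroup.transvection hkl u) := by
  refine Subtype.ext ?_
  show Matrix.transvection i j t * Matrix.transvection k l u =
    Matrix.transvection k l u * Matrix.transvection i j t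
  simp [Matrix.transvection, Matrix.mul_add, Matrix.add_mul, Matrix.single_mul_single_of_ne, hjk,
    hil.symm]
  abel

theorem sl_comm1 {i j k : Fin 3} (hij : i ≠ j) (hjk : j ≠ k) (hik : i ≠ k) (t u : K) :
    Matrix.SpecialLinearGroup.transvection hij t * Matrix.SpecialLinearGroup.transvection hjk u *
      (Matrix.SpecialLinearGroup.transvection hij t)⁻¹ =
    Matrix.SpecialLinearGroup.transvection hik (t * u) *
      Matrix.SpecialLinearGroup.transvection hjk u := by
  rw [mul_inv_eq_iff_eq_mul]
  refine Subtype.ext ?_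
  show Matrix.transvection i j t * Matrix.transvection j k u =
    Matrix.transvection i k (t * u) * Matrix.transvection j k u * Matrix.transvection i j t
  simp [Matrix.transvection, Matrix.mul_add, Matrix.add_mul, Matrix.single_mul_single_of_ne,
    hik.symm, hjk.symm, hij.symm]
  abel

theorem sl_add {i j : Fin 3} (hij : i ≠ j) (t u : K) :
    Matrix.SpecialLinearGroup.transvection hij (t + u) =
      Matrix.SpecialLinearGroup.transvection hij t *
        Matrix.SpecialLinearGroup.transvection hij u := by
  refine Subtype.ext ?_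
  show Matrix.transvection i j (t + u) = Matrix.transvection i j t * Matrix.transvection i j u
  rw [Matrix.transvection_mul_transvection_same i j hij]

variable (K) in
/-- The graph of the homomorphism. -/
noncomputable def graph : Subgroup (GL chevG2.Idx K × Matrix.SpecialLinearGroup (Fin 3) K) :=
  Subgroup.closure {p | ∃ (i j : Fin 3) (h : i ≠ j) (t : K),
    p = (xF i j t, Matrix.SpecialLinearGroup.transvection h t)}

/-- The generators of the graph. -/
noncomputable def gen (i j : Fin 3) (t : K) : graph K :=
  if h : i ≠ j then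
    ⟨(xF i j t, Matrix.SpecialLinearGroup.transvection h t),
      Subgroup.subset_closure ⟨i, j, h, t, rfl⟩⟩
  else 1

theorem gen_val {i j : Fin 3} (h : i ≠ j) (t : K) :
    (gen i j t : GL chevG2.Idx K × Matrix.SpecialLinearGroup (Fin 3) K) =
      (xF i j t, Matrix.SpecialLinearGroup.transvection h t) := by
  rw [gen, dif_pos h]

theorem stComm_gen : StComm (gen (K := K)) where
  add i j t u h := by
    refine Subtype.ext ?_
    rw [Subgroup.coe_mul, gen_val h, gen_val h, gen_val h, Prod.mk_mul_mk, xF_add, sl_add]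
  comm0 i j k l hij hkl hil hjk t u := by
    refine Subtype.ext ?_
    rw [Subgroup.coe_mul, Subgroup.coe_mul, gen_val hij, gen_val hkl, Prod.mk_mul_mk,
      Prod.mk_mul_mk, (xF_comm0 hij hkl hil hjk t u).eq, (sl_comm0 hij hkl hil hjk t u).eq]
  comm1 i j k hij hjk hik t u := by
    refine Subtype.ext ?_
    simp only [Subgroup.coe_mul, Subgroup.coe_inv, gen_val hij, gen_val hjk, gen_val hik,
      Prod.mk_mul_mk, Prod.inv_mk, xF_comm1 hij hjk hik, sl_comm1 hij hjk hik]

theorem exists_psi [Finite K] : ∃ ψ : Matrix.SpecialLinearGroup (Fin 3) K →* GL chevG2.Idx K,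
    ∀ (i j : Fin 3) (h : i ≠ j) (t : K),
      ψ (Matrix.SpecialLinearGroup.transvection h t) = xF i j t := by
  let φ : graph K →* Matrix.SpecialLinearGroup (Fin 3) K :=
    (MonoidHom.snd _ _).comp (graph K).subtype
  have hφ : ∀ i j t, (h : i ≠ j) → φ (gen i j t) =
      Matrix.SpecialLinearGroup.transvection h t := fun i j t h => by
    show (gen i j t : GL chevG2.Idx K × Matrix.SpecialLinearGroup (Fin 3) K).2 = _
    rw [gen_val h]
  have hinj : Function.Injective φ := by
    refine CfsgLib.SLSteinberg.exists_hom gen (stComm_gen.toRel (by decide)) φ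
      (fun i j t h => by rw [hφ i j t h]; rfl) ?_
    rw [eq_top_iff]
    rintro ⟨p, hp⟩ -
    induction hp using Subgroup.closure_induction with
    | mem x hx =>
      obtain ⟨i, j, h, t, rfl⟩ := hx
      exact Subgroup.subset_closure ⟨i, j, h, t, Subtype.ext (gen_val h t).symm⟩
    | one => exact one_mem _
    | mul a b _ _ ha hb => exact mul_mem ha hb
    | inv a _ ha => exact inv_mem ha
  have hsurj : Function.Surjective φ := by
    rw [← MonoidHom.range_eq_top]
    exact CfsgLib.Classical.SL_le_of_transvections _ fun i j hij a => ⟨gen i j a, hφ i j a hij⟩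
  let e := MulEquiv.ofBijective φ ⟨hinj, hsurj⟩
  refine ⟨((MonoidHom.fst _ _).comp (graph K).subtype).comp e.symm.toMonoidHom, fun i j h t => ?_⟩
  have : e.symm (Matrix.SpecialLinearGroup.transvection h t) = gen i j t := by
    rw [MulEquiv.symm_apply_eq]
    exact (hφ i j t h).symm
  show ((e.symm _ : graph K) : GL chevG2.Idx K × Matrix.SpecialLinearGroup (Fin 3) K).1 = _
  rw [this, gen_val h]

/-- The homomorphism `SL₃ → G₂` of the long roots. -/
noncomputable def psi [Finite K] : Matrix.SpecialLinearGroup (Fin 3) K →* GL chevG2.Idx K :=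
  Classical.choose exists_psi

theorem psi_transvection [Finite K] (i j : Fin 3) (h : i ≠ j) (t : K) :
    psi (Matrix.SpecialLinearGroup.transvection h t) = xF i j t :=
  Classical.choose_spec exists_psi i j h t

theorem psi_mem [Finite K] (S : Matrix.SpecialLinearGroup (Fin 3) K) :
    psi S ∈ chevG2.group K := by
  have h : (chevG2.group K).comap psi = ⊤ :=
    CfsgLib.Classical.SL_le_of_transvections _ fun i j hij a => by
      rw [Subgroup.mem_comap, psi_transvection]
      rw [facts.group_eq]
      exact xU_mem_rootClosure (idx_lt i j) trivial a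
  have := Subgroup.mem_top S
  rwa [← h] at this

/-- Extension of scalars. -/
noncomputable def extGL {F : Type*} [Field F] (ι : F →+* K) : GL chevG2.Idx F →* GL chevG2.Idx K :=
  Units.map ι.mapMatrix.toMonoidHom

theorem extGL_xU {F : Type*} [Field F] (ι : F →+* K) {r : ℕ} (hr : r < chevG2.nroots) (t : F) :
    extGL ι (xU chevG2 r t) = xU chevG2 r (ι t) := by
  refine Units.ext ?_
  show ((xU chevG2 r t : GL chevG2.Idx F) : Matrix chevG2.Idx chevG2.Idx F).map ι = _
  rw [facts.xU_val' hr, facts.xU_val' hr, xR_map]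

theorem psi_map [Finite K] {F : Type*} [Field F] [Finite F] (ι : F →+* K)
    (S : Matrix.SpecialLinearGroup (Fin 3) F) :
    psi (Matrix.SpecialLinearGroup.map ι S) = extGL ι (psi S) := by
  have h : (psi (K := K)).comp (Matrix.SpecialLinearGroup.map ι) = (extGL ι).comp psi := by
    refine MonoidHom.eq_of_eqOn_top fun x _ => ?_
    have hle : MonoidHom.eqLocus ((psi (K := K)).comp (Matrix.SpecialLinearGroup.map ι))
        ((extGL ι).comp psi) = ⊤ :=
      CfsgLib.Classical.SL_le_of_transvections _ fun i j hij a => by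
        show psi (Matrix.SpecialLinearGroup.map ι (Matrix.SpecialLinearGroup.transvection hij a)) =
          extGL ι (psi (Matrix.SpecialLinearGroup.transvection hij a))
        have e : Matrix.SpecialLinearGroup.map ι (Matrix.SpecialLinearGroup.transvection hij a) =
            Matrix.SpecialLinearGroup.transvection hij (ι a) := by
          refine Subtype.ext ?_
          show (Matrix.transvection i j a).map ι = Matrix.transvection i j (ι a)
          ext p q
          simp [Matrix.transvection, Matrix.single_apply, Matrix.one_apply, apply_ite ι]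
        rw [e, psi_transvection, psi_transvection, xF, xF, extGL_xU ι (idx_lt i j)]
    exact hle.ge (Subgroup.mem_top x)
  exact DFunLike.congr_fun h S

end CfsgLib.Known.G2Singer
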